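import Groth.Agent.Lib.Hirzebruch12.Section
import Groth.Agent.Lib.Hirzebruch12.GenClass
import Groth.Agent.Lib.Sect28.NegUnique
import Groth.Agent.Lib.NegLine28.Main
import Groth.Agent.Lib.CurveMult.GGCurve
import Groth.Agent.Lib.CurveMult.ProjSmooth
import Groth.Agent.Lib.GGDesc10.Main
import Groth.Agent.Lib.ArSurf29.DivSum

/-!
# Divisors on a Hirzebruch surface
-/

set_option autoImplicit false
set_option backward.isDefEq.respectTransparency false
set_option linter.all false
set_option maxHeartbeats 1000000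

universe u

open CategoryTheory CategoryTheory.Limits AlgebraicGeometry TopologicalSpace

noncomputable section

namespace GrothLib.Hirzebruch12

open GrothLib.Cube (Pic clsMod pull)
open GrothLib.HodgeIndex (isect chi deg curveIdeal cCl rep isInv_rep cls_rep)
open GrothLib.Euler (tF)

variable (k : Type u) [Field k]

attribute [local instance] GrothLib.CurveMult.P1Split.overP1


theorem p1_facts : IsProper ((CohB1.ProjSpace 1 k) ↘ Spec (CommRingCat.of k)) ∧ Smooth ((CohB1.ProjSpace 1 k) ↘ Spec (CommRingCat.of k)) ∧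
    IsIntegral (CohB1.ProjSpace 1 k) ∧ topologicalKrullDim (CohB1.ProjSpace 1 k) = 1 :=
  ⟨Chow.isProper_toSpec 1 k, CurveMult.smooth_toSpec 1 k, ProjDim.isIntegral_proj k 1, CurveMult.P1Split.dim_P1 k⟩

theorem p1_twist [IsAlgClosed k] (m : ℕ) :
    Subsingleton (Coh.HH (CohB1.ProjSpace 1 k) (Twist.twistProjSpace 1 k (m : ℤ)) 1) ∧
      Curv2.IsGloballyGenerated (Twist.twistProjSpace 1 k (m : ℤ)) := by
  obtain ⟨h1, -, h3, h4⟩ := p1_facts k
  haveI := h1
  haveI := h3
  haveI := Euler.isNoetherian_of_proper (X := (CohB1.ProjSpace 1 k)) k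
  refine CurveMult.nef_of_genus_zero_integral k (le_of_eq h4) (PlaneBlow28.subsingleton_H1_of_iso_P1 k (Iso.refl _))
    (CMReg.isInvertible_twist (m : ℤ)) ?_
  rw [Curv2.deg, NegLine28.euler_line k (CMReg.isInvertible_twist (m : ℤ)) m (Contract29.cls_twist_zpow k m),
    NegLine28.euler_line k Euler.isInvertible_structure 0 (by
      rw [zpow_zero, (Cube.clsMod_eq_one_iff _).2 ⟨Iso.refl _⟩])]
  push_cast
  omega

variable [IsAlgClosed k] {X : Scheme.{u}} [X.Over (Spec (CommRingCat.of k))] [IsProper (X ↘ Spec (CommRingCat.of k))]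
  [Smooth (X ↘ Spec (CommRingCat.of k))] [IsIntegral X]
  (hdim : topologicalKrullDim X = ((2 : ℕ) : WithBot ℕ∞))
  (π : X ⟶ (CohB1.ProjSpace 1 k)) (hπ : π ≫ (CohB1.ProjSpace 1 k) ↘ Spec (CommRingCat.of k) = X ↘ Spec (CommRingCat.of k)) (hs : Function.Surjective π)
  (hfib : ∀ y : (CohB1.ProjSpace 1 k), IsClosed ({y} : Set (CohB1.ProjSpace 1 k)) → Nonempty (pullback π ((CohB1.ProjSpace 1 k).fromSpecResidueField y) ≅ (CohB1.ProjSpace 1 k)))

/-- The fibre class. -/
def fcls : Pic X := pull π (clsMod (CMReg.isInvertible_twist (n := 1) (k := k) 1))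

theorem cls_pullback_twist (b : ℤ) :
    clsMod (Ample.isInvertible_pullback π (CMReg.isInvertible_twist (n := 1) (k := k) b)) = fcls k π ^ b := by
  rw [Cube.clsMod_pullback π (CMReg.isInvertible_twist b), Contract29.cls_twist_zpow, map_zpow]
  rfl

include hdim in
theorem isect_zpow_left (x y : Pic X) (b : ℤ) : isect k (x ^ b) y = b * isect k x y := by
  obtain ⟨n, rfl | rfl⟩ := b.eq_nat_or_neg
  · rw [zpow_natCast, HodgeIndex.isect_pow_left k hdim.le]
  · rw [zpow_neg, zpow_natCast, HodgeIndex.isect_inv_left k hdim.le, HodgeIndex.isect_pow_left k hdim.le]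
    ring

include hdim hπ hs hfib in
theorem isect_fcls_self : isect k (fcls k π) (fcls k π) = 0 := by
  obtain ⟨h1, h2, h3, h4⟩ := p1_facts k
  haveI := h1
  haveI := h2
  haveI := h3
  have hone : chi k (1 : Pic X) = chi k (1 : Pic (CohB1.ProjSpace 1 k)) := by
    rw [← map_one (pull π), Sect28.chi_pull k hdim h4 π hπ hs hfib]
  rw [fcls, isect, ← map_mul, Sect28.chi_pull k hdim h4 π hπ hs hfib, Sect28.chi_pull k hdim h4 π hπ hs hfib,
    Sect28.chi_mul_curve k h4, hone]
  ring

theorem gc_fcls_pow (m : ℕ) : GC (fcls k π ^ m) := by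
  haveI := Euler.isNoetherian_of_proper (X := X) k
  have h := gc_of_gg (Ample.isInvertible_pullback π (CMReg.isInvertible_twist (n := 1) (k := k) (m : ℤ)))
    (GGDesc10.isGloballyGenerated_pullback π (p1_twist k m).2)
  rwa [cls_pullback_twist, zpow_natCast] at h

include hdim hπ hs hfib in
theorem subsingleton_H1_fcls_pow (m : ℕ) :
    Subsingleton (Coh.HH X ((Scheme.Modules.pullback π).obj (Twist.twistProjSpace 1 k (m : ℤ))) 1) := by
  obtain ⟨h1, h2, h3, h4⟩ := p1_facts k
  haveI := h1
  haveI := h2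
  haveI := h3
  haveI := Euler.isNoetherian_of_proper (X := X) k
  letI := GrothLib.RpushSupp20.hasInjectiveResolutions X
  have hM := CMReg.isInvertible_twist (n := 1) (k := k) (m : ℤ)
  have hL := Ample.isInvertible_pullback π hM
  obtain ⟨l⟩ := PlaneBlow28.ruled_hh k hdim h4 π hπ hs hfib hL (fun y hy hI => by
    rw [Cube.clsMod_pullback π hM, Sect28.isect_pull_fibre k hdim h4 π hπ hs _ hy hI]) 1
  haveI : IsIso ((UnitLF26.unitNat π).app (Twist.twistProjSpace 1 k (m : ℤ))) :=
    UnitLF26.isIso_unit π (PlaneBlow28.ruled_bijective_app k h4 π hπ hs hfib) (Euler.isFinLocFree_of_isInvertible hM)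
  let e : Twist.twistProjSpace 1 k (m : ℤ) ≅
      (Coh.push π).obj ((Scheme.Modules.pullback π).obj (Twist.twistProjSpace 1 k (m : ℤ))) :=
    asIso ((UnitLF26.unitNat π).app (Twist.twistProjSpace 1 k (m : ℤ)))
  haveI := (p1_twist k m).1
  exact (l.trans (Euler.hhEquiv (A := k) e 1).symm).toEquiv.subsingleton

variable (σ : X.IdealSheafData) (hσi : IsIntegral σ.subscheme) (hσd : topologicalKrullDim (σ.support : Set X) = 1)
  (hσf : isect k (fcls k π) (cCl σ) = 1) (n : ℕ) (hσσ : isect k (cCl σ) (cCl σ) = -(n : ℤ))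

include hdim hπ hs hfib hσi hσd hσf hσσ in
/-- `σ + n f` has no base points. -/
theorem gc_section_add : GC (cCl σ * fcls k π ^ n) := by
  obtain ⟨h1, h2, h3, h4⟩ := p1_facts k
  haveI := h1
  haveI := h2
  haveI := h3
  haveI := Euler.isNoetherian_of_proper (X := X) k
  obtain ⟨y, hy, hyσ, -⟩ := HodgeIndex.exists_curve_point k hdim hσi hσd
  subst hyσ
  have hI := HodgeIndex.inv_curveIdeal k hdim hy
  haveI : IsIntegral (curveIdeal y).subscheme := Snapper.isIntegral_pt y
  let Cs := (curveIdeal y).subscheme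
  let j := (curveIdeal y).subschemeι
  letI : Cs.Over (Spec (CommRingCat.of k)) := ⟨j ≫ X ↘ Spec (CommRingCat.of k)⟩
  haveI : IsProper (Cs ↘ Spec (CommRingCat.of k)) := inferInstanceAs (IsProper (j ≫ X ↘ Spec (CommRingCat.of k)))
  haveI := Euler.isNoetherian_of_proper (X := Cs) k
  have hiso : IsIso (j ≫ π) := by
    refine isIso_of_degree_one k π hπ h4 (CMReg.isInvertible_twist (n := 1) (k := k) 1) hy ?_
    rw [Cube.clsMod_pullback π (CMReg.isInvertible_twist (n := 1) (k := k) 1), RatCyc12.deg_eq_ccl k hdim hy]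
    exact_mod_cast hσf
  haveI := hiso
  have hg0 := PlaneBlow28.subsingleton_H1_of_iso_P1 k (asIso (j ≫ π))
  let M := rep (cCl (curveIdeal y) * fcls k π ^ n)
  have hM : PicF.IsInvertible M := isInv_rep _
  have hdC : topologicalKrullDim Cs ≤ 1 := NumConn12.dim_pt hy
  have hNi := Ample.isInvertible_pullback j hM
  have hdeg0 : Curv2.deg k Cs ((Scheme.Modules.pullback j).obj M) 1 = 0 := by
    have e := NumConn12.deg_pullback_pt k hdim hy hM
    rw [cls_rep, RatCyc12.deg_eq_ccl k hdim hy, HodgeIndex.isect_mul_left k hdim.le,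
      HodgeIndex.isect_pow_left k hdim.le, hσσ, hσf, mul_one, neg_add_cancel, Int.cast_zero] at e
    exact_mod_cast e
  have hnt : Nontrivial (Coh.HH Cs ((Scheme.Modules.pullback j).obj M) 0) := by
    refine Euler.nontrivial_H0_of_euler_pos k hdC (Euler.isCoh_of_isInvertible hNi) ?_
    have h0 : Curv2.euler k Cs (Coh.structureModule Cs) = 1 := by
      rw [Euler.euler_structure k hdC, ConnH0.finrank_H0_eq_one k, Curv2.genus,
        Module.finrank_zero_of_subsingleton (M := Coh.HH Cs (Coh.structureModule Cs) 1)]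
      simp
    have hdg := hdeg0
    rw [Curv2.deg, h0] at hdg
    push_cast at hdg
    omega
  obtain ⟨ε⟩ := (Euler.section_data k hdC hNi hnt).2.2 hdeg0
  obtain ⟨q⟩ := CMReg.nonempty_tensorMod_push j M (Euler.isFinLocFree_of_isInvertible hM)
  haveI : Epi (ClSub.toSubscheme (curveIdeal y)) := Euler.epi_toSubscheme _
  have hgq : Curv2.IsGloballyGenerated (ClSub.quotMod (curveIdeal y)) :=
    CurveMult.isGloballyGenerated_of_epi (ClSub.toSubscheme (curveIdeal y)) CurveMult.isGloballyGenerated_structure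
  have h₃ : Curv2.IsGloballyGenerated ((tF M).obj (ClSub.quotMod (curveIdeal y))) :=
    Ample.isGloballyGenerated_of_iso (q ≪≫ (Scheme.Modules.pushforward j).mapIso ε).symm hgq
  have hS := OX.tensor_map_shortExact (OX.flat_of_isFinLocFree (Euler.isFinLocFree_of_isInvertible hM))
    (ArSurf29.shortExact_ideal (curveIdeal y))
  haveI := hS.epi_g
  haveI := hS.mono_f
  obtain ⟨e₁⟩ : Nonempty ((tF M).obj (ClSub.idealMod (curveIdeal y)) ≅
      (Scheme.Modules.pullback π).obj (Twist.twistProjSpace 1 k (n : ℤ))) :=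
    (Cube.clsMod_eq_iff (Ample.isInvertible_tensorMod hI hM)
      (Ample.isInvertible_pullback π (CMReg.isInvertible_twist (n := 1) (k := k) (n : ℤ)))).1 (by
      rw [cls_pullback_twist, Cube.clsMod_tensorMod hI hM, cls_rep, zpow_natCast, cCl, dif_pos hI,
        mul_inv_cancel_left])
  have h₁ : Curv2.IsGloballyGenerated ((tF M).obj (ClSub.idealMod (curveIdeal y))) :=
    Ample.isGloballyGenerated_of_iso e₁.symm (GGDesc10.isGloballyGenerated_pullback π (p1_twist k n).2)
  have hgg : Curv2.IsGloballyGenerated ((tF M).obj (Coh.structureModule X)) := by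
    refine CurveMult.isGloballyGenerated_extension k hS.exact ?_ h₁ h₃
    let S := (ShortComplex.mk (ClSub.idealModι (curveIdeal y)) (ClSub.toSubscheme (curveIdeal y))
      (kernel.condition _)).map (tF M)
    haveI : Mono S.f := hS.mono_f
    let φ : S.X₁ ⟶ kernel S.g := kernel.lift S.g S.f S.zero
    haveI : Epi φ := ShortComplex.Exact.epi_kernelLift (S := S) hS.exact
    haveI : Mono φ := mono_of_mono_fac (kernel.lift_ι S.g S.f S.zero)
    haveI := isIso_of_mono_of_epi φ
    haveI := subsingleton_H1_fcls_pow k hdim π hπ hs hfib n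
    exact ((Euler.hhEquiv (A := k) ((asIso φ).symm ≪≫ e₁) 1)).toEquiv.subsingleton
  have h := gc_of_gg hM (Ample.isGloballyGenerated_of_iso (OX.tensorUnitLeftIso M) hgg)
  rwa [cls_rep] at h

end GrothLib.Hirzebruch12
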