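import Groth.Agent.Lib.Hirzebruch12.Main
import Groth.Agent.Lib.Goodman.Main
import Groth.Agent.Lib.HodgeIndex.Real
import Groth.Agent.Lib.NefGrowth.IntNum

/-!
# Nef, generated and effective classes on a Hirzebruch surface
-/

set_option autoImplicit false
set_option backward.isDefEq.respectTransparency false
set_option linter.all false
set_option maxHeartbeats 1000000

universe u

open CategoryTheory CategoryTheory.Limits AlgebraicGeometry TopologicalSpace

noncomputable section

namespace GrothLib.Hirzebruch12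

open GrothLib.Cube (Pic clsMod pull)
open GrothLib.HodgeIndex (isect chi deg curveIdeal cCl rep isInv_rep cls_rep)
open GrothLib.Euler (tF)
open GrothLib.Kodaira (PLe)

attribute [local instance] GrothLib.CurveMult.P1Split.overP1

variable (k : Type u) [Field k] [IsAlgClosed k] {X : Scheme.{u}} [X.Over (Spec (CommRingCat.of k))]
  [IsProper (X ↘ Spec (CommRingCat.of k))] [Smooth (X ↘ Spec (CommRingCat.of k))] [IsIntegral X]

theorem hirzebruch_coeff (hdim : topologicalKrullDim X = ((2 : ℕ) : WithBot ℕ∞))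
    (π : X ⟶ CohB1.ProjSpace 1 k) (hπ : π ≫ CohB1.ProjSpace.toSpec 1 k = (X ↘ (Spec (CommRingCat.of k))))
    (hsurj : Function.Surjective π)
    (hfib : ∀ y : CohB1.ProjSpace 1 k, IsClosed ({y} : Set (CohB1.ProjSpace 1 k)) →
      Nonempty (pullback π ((CohB1.ProjSpace 1 k).fromSpecResidueField y) ≅ CohB1.ProjSpace 1 k))
    (σ : X.IdealSheafData) (hσi : IsIntegral σ.subscheme) (hσd : topologicalKrullDim (σ.support : Set X) = 1)
    (hσf : Curv2.euler k X (CohB1.tensorMod (ClSub.quotMod σ) ((Scheme.Modules.pullback π).obj (Twist.twistProjSpace 1 k 1))) -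
      Curv2.euler k X (ClSub.quotMod σ) = 1)
    (n : ℕ) (hσσ : FGA.intNum k X 2 ![(ClSub.idealMod σ), (ClSub.idealMod σ)] (Coh.structureModule X) = -(n : ℤ))
    (N : X.Modules) (hN : ClSub.IsInverseOf N (ClSub.idealMod σ)) (a : ℕ) (b : ℤ) :
    ((∀ C : X.IdealSheafData, IsIntegral C.subscheme → topologicalKrullDim (C.support : Set X) = 1 →
        0 ≤ Curv2.euler k X (CohB1.tensorMod (ClSub.quotMod C)
          (CohB1.tensorMod (CohB1.tensorPow N a) ((Scheme.Modules.pullback π).obj (Twist.twistProjSpace 1 k b)))) -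
          Curv2.euler k X (ClSub.quotMod C)) ↔ (n : ℤ) * a ≤ b) ∧
      (Curv2.IsGloballyGenerated (CohB1.tensorMod (CohB1.tensorPow N a) ((Scheme.Modules.pullback π).obj (Twist.twistProjSpace 1 k b))) ↔
        (n : ℤ) * a ≤ b) ∧
      (Nontrivial (Coh.HH X (CohB1.tensorMod (CohB1.tensorPow N a) ((Scheme.Modules.pullback π).obj (Twist.twistProjSpace 1 k b))) 0) ↔
        0 ≤ b) := by
  haveI := Euler.isNoetherian_of_proper (X := X) k
  obtain ⟨H, hH⟩ := Goodman.exists_ample_of_smooth_surface k hdim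
  have hπ' : π ≫ CohB1.ProjSpace 1 k ↘ Spec (CommRingCat.of k) = X ↘ Spec (CommRingCat.of k) := hπ
  have hI := HodgeIndex.inv_curve k hdim hσi hσd
  obtain ⟨hN', hNI⟩ := NefGrowth.cls_inverse hI hN
  have hs : clsMod hN' = cCl σ := by rw [cCl, dif_pos hI]; exact eq_inv_of_mul_eq_one_left hNI
  let s := cCl σ
  let f := fcls k π
  have hfs : isect k f s = 1 := by
    have h := HodgeIndex.euler_sub_eq_isect k hdim hσi hσd
      (Ample.isInvertible_pullback π (CMReg.isInvertible_twist (n := 1) (k := k) 1))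
    rw [cls_pullback_twist, zpow_one] at h
    exact h.symm.trans hσf
  have hss : isect k s s = -(n : ℤ) := (HodgeIndex.intNum_curves k hdim hσi hσd hσi hσd hH).symm.trans hσσ
  have hff : isect k f f = 0 := isect_fcls_self k hdim π hπ' hsurj hfib
  have hT0 : GC (s * f ^ n) := gc_section_add k hdim π hπ' hsurj hfib σ hσi hσd hfs n hss
  let L := CohB1.tensorMod (CohB1.tensorPow N a) ((Scheme.Modules.pullback π).obj (Twist.twistProjSpace 1 k b))
  obtain ⟨hL, hz⟩ : ∃ hL : PicF.IsInvertible L, clsMod hL = s ^ a * f ^ b := by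
    have h1 := Cube.clsMod_tensorPow hN' a
    exact ⟨Ample.isInvertible_tensorMod (Ample.isInvertible_tensorPow hN' a)
        (Ample.isInvertible_pullback π (CMReg.isInvertible_twist (n := 1) (k := k) b)), by
      rw [Cube.clsMod_tensorMod (Ample.isInvertible_tensorPow hN' a)
        (Ample.isInvertible_pullback π (CMReg.isInvertible_twist (n := 1) (k := k) b)), h1, cls_pullback_twist, hs]⟩
  have hzs : isect k (s ^ a * f ^ b) s = b - (n : ℤ) * a := by
    rw [HodgeIndex.isect_mul_left k hdim.le, HodgeIndex.isect_pow_left k hdim.le, isect_zpow_left k hdim, hss, hfs]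
    ring
  have hgc : (n : ℤ) * a ≤ b → GC (s ^ a * f ^ b) := fun h => by
    obtain ⟨m, hm⟩ : ∃ m : ℕ, b = (n : ℤ) * a + m := ⟨(b - (n : ℤ) * a).toNat, by omega⟩
    have h2 := (hT0.pow a).mul (gc_fcls_pow k π m)
    rwa [mul_pow, ← pow_mul, mul_assoc, ← pow_add,
      show f ^ (n * a + m) = f ^ b by rw [hm, ← zpow_natCast]; push_cast; rfl] at h2
  have hσpos : GC (s ^ a * f ^ b) → (n : ℤ) * a ≤ b := fun h => by
    obtain ⟨y, hy, -, -, e⟩ := HodgeIndex.isect_cCl_eq_deg k hdim hσi hσd (s ^ a * f ^ b)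
    have h1 := h.deg_nonneg k hdim hy
    rw [← e, show cCl σ = s from rfl, hzs] at h1
    have : (0 : ℤ) ≤ b - (n : ℤ) * a := by exact_mod_cast h1
    omega
  refine ⟨⟨fun h => ?_, fun h C hCi hCd => ?_⟩, ⟨fun h => ?_, fun h => gg_of_gc hL (hz.symm ▸ hgc h)⟩,
    ⟨fun h => ?_, fun h => ?_⟩⟩
  · have h0 := h σ hσi hσd
    rw [HodgeIndex.euler_sub_eq_isect k hdim hσi hσd hL, hz, show cCl σ = s from rfl, hzs] at h0
    omega
  · rw [HodgeIndex.euler_sub_eq_isect k hdim hCi hCd hL, hz]
    obtain ⟨y, hy, -, -, e⟩ := HodgeIndex.isect_cCl_eq_deg k hdim hCi hCd (s ^ a * f ^ b)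
    have h1 := (hgc h).deg_nonneg k hdim hy
    rw [← e] at h1
    exact_mod_cast h1
  · exact hσpos (hz ▸ gc_of_gg hL h)
  · obtain ⟨v, hv⟩ := exists_ne (0 : Coh.HH X L 0)
    let t : Γ(L, ⊤) := ProjCoh.H0top L v
    have ht : t ≠ 0 := fun h0 => hv ((ProjCoh.H0top L).injective (h0.trans (map_zero _).symm))
    haveI := Euler.mono_homOfSection hL ht
    have hle : PLe (1 : Pic X) (s ^ a * f ^ b) := by
      rw [← hz, ← (Cube.clsMod_eq_one_iff (Euler.isInvertible_structure (X := X))).2 ⟨Iso.refl _⟩]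
      exact (Kodaira.pLe_iff _ _).2 ⟨FinCov.homOfSection t, inferInstance⟩
    have h1 := HodgeIndex.sum_isect_nonneg k hdim (fun _ : Fin 1 => (1 : ℚ)) (fun _ => s * f ^ n)
      (fun y hy => by simpa using hT0.deg_nonneg k hdim hy) hle
    simp only [Finset.univ_unique, Finset.sum_singleton, one_mul] at h1
    have h2 : isect k (s * f ^ n) (s ^ a * f ^ b) = b := by
      rw [HodgeIndex.isect_comm, HodgeIndex.isect_mul_left k hdim.le, HodgeIndex.isect_pow_left k hdim.le,
        isect_zpow_left k hdim, HodgeIndex.isect_mul_right k hdim.le, HodgeIndex.isect_mul_right k hdim.le,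
        HodgeIndex.isect_comm k s (f ^ n), HodgeIndex.isect_comm k f (f ^ n), HodgeIndex.isect_pow_left k hdim.le,
        HodgeIndex.isect_pow_left k hdim.le, hss, hfs, hff]
      ring
    rw [h2] at h1
    exact_mod_cast h1
  · have hI1 : PLe (clsMod hI) 1 := by
      rw [← (Cube.clsMod_eq_one_iff (Euler.isInvertible_structure (X := X))).2 ⟨Iso.refl _⟩]
      haveI : Mono (ClSub.idealModι σ) := inferInstanceAs (Mono (kernel.ι (ClSub.toSubscheme σ)))
      exact (Kodaira.pLe_iff _ _).2 ⟨ClSub.idealModι σ, inferInstance⟩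
    have h1s : PLe (1 : Pic X) s := by
      have h2 := hI1.mul_right s
      rwa [show clsMod hI * s = 1 by simp only [s, cCl, dif_pos hI, mul_inv_cancel], one_mul] at h2
    obtain ⟨m, rfl⟩ : ∃ m : ℕ, b = m := ⟨b.toNat, by omega⟩
    have h3 : PLe (1 : Pic X) (clsMod hL) := by
      rw [hz, zpow_natCast]
      have := (h1s.pow a).mul ((gc_fcls_pow k π m).pLe hdim)
      rwa [one_pow, one_mul] at this
    rw [← (Cube.clsMod_eq_one_iff (Euler.isInvertible_structure (X := X))).2 ⟨Iso.refl _⟩] at h3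
    obtain ⟨g, hg⟩ := (Kodaira.pLe_iff _ hL).1 h3
    haveI := hg
    exact CurveMult.nontrivial_H0_of_hom (Kodaira.exists_ne_zero_of_mono Euler.isInvertible_structure g)

end GrothLib.Hirzebruch12
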