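import Groth.Agent.Lib.HodgeIndex.Fibration
import Groth.Agent.Lib.RatCyc12.Fundamental
import Groth.Agent.Lib.CurvePoints.Birational
import Groth.Agent.Lib.PlaneBlow28.Ruled

/-!
# Curves of degree one over the line
-/

set_option autoImplicit false
set_option backward.isDefEq.respectTransparency false
set_option linter.all false

universe u

open CategoryTheory CategoryTheory.Limits AlgebraicGeometry TopologicalSpace

noncomputable section

namespace GrothLib.Hirzebruch12

open GrothLib.Cube (Pic clsMod)
open GrothLib.HodgeIndex (isect deg curveIdeal cCl)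
open GrothLib.Snapper (IsTop phi mixed ptMod)

variable {X Y : Scheme.{u}} (k : Type u) [Field k] [X.Over (Spec (CommRingCat.of k))]
  [IsProper (X ↘ Spec (CommRingCat.of k))]
  [Y.Over (Spec (CommRingCat.of k))] [IsProper (Y ↘ Spec (CommRingCat.of k))]
  (g : X ⟶ Y) (hg : g ≫ Y ↘ Spec (CommRingCat.of k) = X ↘ Spec (CommRingCat.of k))

include hg in
/-- Degree of a pullback with the residue degree explicit. -/
theorem deg_pullback_residueDegree {M : Y.Modules} (hM : PicF.IsInvertible M) {y : X} (hy : IsTop 1 y) :
    haveI : IsIntegral (curveIdeal y).subscheme := Snapper.isIntegral_pt y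
    deg k y (clsMod (Kleiman.isInv_pullback g hM)) =
      (((curveIdeal y).subschemeι ≫ g).residueDegree (genericPoint (curveIdeal y).subscheme) : ℚ) *
        mixed 1 (phi k 1 (fun _ => M) (ptMod (((curveIdeal y).subschemeι ≫ g) (genericPoint (curveIdeal y).subscheme)))) := by
  let I := curveIdeal y
  letI : I.subscheme.Over (Spec (CommRingCat.of k)) := ⟨I.subschemeι ≫ X ↘ Spec (CommRingCat.of k)⟩
  haveI : IsProper (I.subscheme ↘ Spec (CommRingCat.of k)) :=
    inferInstanceAs (IsProper (I.subschemeι ≫ X ↘ Spec (CommRingCat.of k)))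
  haveI : IsIntegral I.subscheme := Snapper.isIntegral_pt y
  have hd : topologicalKrullDim I.subscheme = ((1 : ℕ) : WithBot ℕ∞) := by
    refine (IsHomeomorph.topologicalKrullDim_eq _
      I.subschemeι.isClosedEmbedding.isEmbedding.toHomeomorph.isHomeomorph).trans ?_
    rw [Snapper.range_pt]
    exact hy
  have hp : (I.subschemeι ≫ g) ≫ Y ↘ Spec (CommRingCat.of k) = I.subscheme ↘ Spec (CommRingCat.of k) := by
    rw [Category.assoc, hg]
    rfl
  have he : phi k 1 (fun _ => (Scheme.Modules.pullback g).obj M) (ptMod y) =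
      phi k 1 (fun _ => (Scheme.Modules.pullback (I.subschemeι ≫ g)).obj M) (Coh.structureModule I.subscheme) := by
    have hA := Kleiman.isInv_pullback I.subschemeι (Kleiman.isInv_pullback g hM)
    have hB := Kleiman.isInv_pullback (I.subschemeι ≫ g) hM
    refine Eq.trans ?_ (funext fun n => Kleiman.phi_eq_of_cls k (fun _ : Fin 1 => hA) (fun _ : Fin 1 => hB) _
      (n := n) (n' := n) (by rw [(Cube.clsMod_eq_iff hA hB).2 ⟨(Scheme.Modules.pullbackComp I.subschemeι g).app M⟩]))
    funext n
    refine (Snapper.phi_push k I.subschemeι rfl (fun _ => Kleiman.isInv_pullback g hM) n).trans ?_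
    exact congrArg Int.cast (Euler.euler_of_iso k (OX.tensorUnitLeftIso _).symm)
  have h := Snapper.mixed_eq_zero (Snapper.phi_pullback_sub_mem (k := k) (g := I.subschemeι ≫ g) hp hd (r := 1)
    (L := fun _ => M) (fun _ => hM))
  rw [map_sub, map_nsmul, sub_eq_zero, nsmul_eq_mul, ← he, ← HodgeIndex.deg_eq_mixed k (Kleiman.isInv_pullback g hM)] at h
  exact h

include hg in
/-- An integral curve of degree one over a regular curve maps isomorphically onto it. -/
theorem isIso_of_degree_one [IsIntegral Y] [Smooth (Y ↘ Spec (CommRingCat.of k))] (hdimY : topologicalKrullDim Y = 1)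
    {M : Y.Modules} (hM : PicF.IsInvertible M) {y : X} (hy : IsTop 1 y)
    (h1 : deg k y (clsMod (Kleiman.isInv_pullback g hM)) = 1) : IsIso ((curveIdeal y).subschemeι ≫ g) := by
  haveI := Euler.isNoetherian_of_proper (X := Y) k
  let I := curveIdeal y
  haveI : IsIntegral I.subscheme := Snapper.isIntegral_pt y
  let φ := I.subschemeι ≫ g
  let η := genericPoint I.subscheme
  have hyη : I.subschemeι η = y := (inseparable_iff_closure_eq.2
    ((QCoh.closure_singleton_eq_range I.subschemeι).trans (Snapper.range_pt y))).eq
  have hdd := deg_pullback_residueDegree k g hg hM hy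
  rw [h1] at hdd
  have hgy : φ η = genericPoint Y := by
    refine HodgeIndex.eq_genericPoint_of_not_closed hdimY.le fun hc => ?_
    have h0 := (HodgeIndex.deg_pullback k g hg hM hy).1 (by
      rw [show g y = φ η from ((Scheme.Hom.comp_apply _ _ _).trans (congrArg g hyη)).symm]
      exact HodgeIndex.not_isTop_of_isClosed hc)
    rw [h1] at h0
    exact one_ne_zero h0
  have hd1 : φ.residueDegree η = 1 := by
    rw [← HodgeIndex.euler_sub_eq_mixed k hM] at hdd
    have h2 : ((φ.residueDegree η : ℕ) : ℤ) *
        (Curv2.euler k Y (CohB1.tensorMod (ptMod (φ η)) M) - Curv2.euler k Y (ptMod (φ η))) = 1 := by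
      exact_mod_cast hdd.symm
    exact_mod_cast Int.eq_one_of_mul_eq_one_right (Int.natCast_nonneg _) h2
  have hres : Function.Bijective (φ.residueFieldMap η).hom := by
    refine ⟨RingHom.injective _, ?_⟩
    unfold Scheme.Hom.residueDegree at hd1
    letI := (φ.residueFieldMap η).hom.toAlgebra
    intro z
    obtain ⟨a, ha⟩ := (finrank_eq_one_iff_of_nonzero' (1 : I.subscheme.residueField η) one_ne_zero).1 hd1 z
    refine ⟨a, ?_⟩
    rw [← ha, Algebra.smul_def, mul_one]
    rfl
  have hfld : ∀ {W : Scheme.{u}} [IsIntegral W] (w : W), w = genericPoint W → Function.Bijective (W.residue w).hom := by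
    intro W _ w hw
    subst hw
    refine ⟨(injective_iff_map_eq_zero _).2 fun a ha => ?_, W.residue_surjective _⟩
    by_contra hne
    have hu : IsUnit a := (Field.toSemifield : Semifield W.functionField) |> fun _ => IsUnit.mk0 (G₀ := W.functionField) a hne
    exact (hu.map (W.residue (genericPoint W)).hom).ne_zero ha
  have hstalk : Function.Bijective (φ.stalkMap η).hom := by
    have hnat : ∀ a, (φ.residueFieldMap η).hom ((Y.residue (φ η)).hom a) =
        (I.subscheme.residue η).hom ((φ.stalkMap η).hom a) := fun a =>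
      congr($(Scheme.residue_residueFieldMap φ η).hom a)
    have hc : Function.Bijective ((φ.residueFieldMap η).hom ∘ (Y.residue (φ η)).hom) := hres.comp (hfld _ hgy)
    rw [show ((φ.residueFieldMap η).hom ∘ (Y.residue (φ η)).hom) =
      (I.subscheme.residue η).hom ∘ (φ.stalkMap η).hom from funext hnat] at hc
    exact (Function.Bijective.of_comp_iff' (hfld η rfl) _).1 hc
  haveI : IsProper (I.subschemeι ≫ X ↘ Spec (CommRingCat.of k)) := inferInstance
  haveI : IsProper (φ ≫ Y ↘ Spec (CommRingCat.of k)) := by rw [Category.assoc, hg]; infer_instance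
  haveI : IsProper φ := IsProper.of_comp φ (Y ↘ Spec (CommRingCat.of k))
  haveI : I.subscheme.IsSeparated := by
    haveI : IsSeparated (I.subschemeι ≫ X ↘ Spec (CommRingCat.of k) ≫ terminal.from _) := inferInstance
    exact ⟨by simpa using this⟩
  have hdI : topologicalKrullDim I.subscheme ≤ 1 := NumConn12.dim_pt hy
  exact CurvePoints.isIso_of_birational_of_universallyClosed hdI hdimY.le (fun z => by
    haveI := HodgeIndex.regular_of_smooth k (X := Y) z
    exact RegLoc.isIntegrallyClosed_of_isRegularLocalRing _) φ hgy hstalk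

end GrothLib.Hirzebruch12
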